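import Groth.Agent.GeomRedPtLib.Basic
import Mathlib.RingTheory.Nilpotent.GeometricallyReduced

/-!
# Geometric reducedness of function fields from reduced base changes
-/

set_option autoImplicit false
set_option backward.isDefEq.respectTransparency false
set_option linter.style.haveILetI false

universe u

open CategoryTheory CategoryTheory.Limits AlgebraicGeometry TopologicalSpace TensorProduct

noncomputable section

namespace Groth.Agent.OmegaSepLib

theorem isGeometricallyReduced_of_reduced_bc {k L : Type u} [Field k] [Field L] [Algebra k L] {Y : Scheme.{u}}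
    (p : Y ⟶ Spec (CommRingCat.of k)) (t : Spec (CommRingCat.of L) ⟶ Y) [IsPreimmersion t] [Flat t]
    (ht : t ≫ p = Spec.map (CommRingCat.ofHom (algebraMap k L)))
    (h : IsReduced (pullback p (Spec.map (CommRingCat.ofHom (algebraMap k (AlgebraicClosure k)))))) :
    Algebra.IsGeometricallyReduced k L := by
  let K := AlgebraicClosure k
  let A := L ⊗[k] K
  let inl : Spec (CommRingCat.of A) ⟶ Spec (CommRingCat.of L) :=
    Spec.map (CommRingCat.ofHom (Algebra.TensorProduct.includeLeftRingHom))
  let inr : Spec (CommRingCat.of A) ⟶ Spec (CommRingCat.of K) :=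
    Spec.map (CommRingCat.ofHom (Algebra.TensorProduct.includeRight (R := k) (A := L) (B := K)).toRingHom)
  have hsq : IsPullback inl inr (Spec.map (CommRingCat.ofHom (algebraMap k L)))
      (Spec.map (CommRingCat.ofHom (algebraMap k K))) :=
    isPullback_SpecMap_of_isPushout _ _ _ _ (CommRingCat.isPushout_tensorProduct k L K)
  let t' : Spec (CommRingCat.of A) ⟶ pullback p (Spec.map (CommRingCat.ofHom (algebraMap k K))) :=
    pullback.lift (inl ≫ t) inr (by rw [Category.assoc, ht]; exact hsq.w)
  have hp : IsPullback t' inl (pullback.fst p _) t := by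
    refine IsPullback.of_right ?_ (pullback.lift_fst _ _ _) (IsPullback.of_hasPullback p _).flip
    rw [pullback.lift_snd, ht]
    exact hsq.flip
  haveI : IsPreimmersion t' := MorphismProperty.of_isPullback (P := @IsPreimmersion) hp.flip inferInstance
  haveI : Flat t' := MorphismProperty.of_isPullback (P := @Flat) hp.flip inferInstance
  haveI := h
  haveI : ∀ x : Spec (CommRingCat.of A), _root_.IsReduced ((Spec (CommRingCat.of A)).presheaf.stalk x) :=
    fun x => (GeomRedPtLib.isReduced_stalk_iff_of_preimmersion t' x).2 inferInstance
  haveI : IsReduced (Spec (CommRingCat.of A)) := isReduced_of_isReduced_stalk _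
  haveI : _root_.IsReduced A :=
    isReduced_of_injective (Scheme.ΓSpecIso (CommRingCat.of A)).commRingCatIsoToRingEquiv.symm
      (Scheme.ΓSpecIso (CommRingCat.of A)).commRingCatIsoToRingEquiv.symm.injective
  rw [Algebra.isGeometricallyReduced_field_iff]
  exact isReduced_of_injective (Algebra.TensorProduct.comm k K L) (AlgEquiv.injective _)

theorem flat_fromSpecResidueField_generic (X : Scheme.{u}) [IsIntegral X] :
    Flat (X.fromSpecResidueField (genericPoint X)) := by
  haveI : Flat (X.fromSpecStalk (genericPoint X)) := by
    obtain ⟨U, hU, hxU, -⟩ := exists_isAffineOpen_mem_and_subset (X := X) (x := genericPoint X) (U := ⊤) trivial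
    rw [← hU.fromSpecStalk_eq_fromSpecStalk hxU, IsAffineOpen.fromSpecStalk]
    letI := TopCat.Presheaf.algebra_section_stalk X.presheaf (⟨genericPoint X, hxU⟩ : U)
    haveI := hU.isLocalization_stalk ⟨genericPoint X, hxU⟩
    haveI : Flat (Spec.map (X.presheaf.germ U (genericPoint X) hxU)) := by
      refine (HasRingHomProperty.Spec_iff (P := @Flat)).mpr ?_
      exact IsLocalization.flat (X.presheaf.stalk (genericPoint X))
        (hU.primeIdealOf ⟨genericPoint X, hxU⟩).asIdeal.primeCompl
    infer_instance
  haveI : IsIso (X.residue (genericPoint X)) := (ConcreteCategory.isIso_iff_bijective _).2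
    ⟨(X.residue (genericPoint X)).hom.injective, Scheme.residue_surjective _ _⟩
  unfold Scheme.fromSpecResidueField
  infer_instance

/-- The function field over the residue field of the image is geometrically reduced. -/
theorem isGeometricallyReduced_residueFieldMap {X Z : Scheme.{u}} [IsIntegral X] (f : X ⟶ Z)
    [GeometricallyReduced (pullback.snd f (Z.fromSpecResidueField (f (genericPoint X))))] :
    letI := (f.residueFieldMap (genericPoint X)).hom.toAlgebra
    Algebra.IsGeometricallyReduced (Z.residueField (f (genericPoint X))) (X.residueField (genericPoint X)) := by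
  letI := (f.residueFieldMap (genericPoint X)).hom.toAlgebra
  let ι := pullback.fst f (Z.fromSpecResidueField (f (genericPoint X)))
  let t := pullback.lift (f := f) (g := Z.fromSpecResidueField (f (genericPoint X)))
    (X.fromSpecResidueField (genericPoint X)) (Spec.map (f.residueFieldMap (genericPoint X)))
    (Scheme.Hom.SpecMap_residueFieldMap_fromSpecResidueField f (genericPoint X)).symm
  haveI : Mono (Z.fromSpecResidueField (f (genericPoint X))) := inferInstance
  haveI : Mono ι := inferInstance
  have hsq : IsPullback (𝟙 _) t (X.fromSpecResidueField (genericPoint X)) ι :=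
    IsPullback.of_horiz_isIso_mono ⟨by rw [Category.id_comp]; exact (pullback.lift_fst _ _ _).symm⟩
  haveI : IsPreimmersion t := MorphismProperty.of_isPullback (P := @IsPreimmersion) hsq inferInstance
  haveI : Flat t := MorphismProperty.of_isPullback (P := @Flat) hsq (flat_fromSpecResidueField_generic X)
  refine isGeometricallyReduced_of_reduced_bc (k := Z.residueField (f (genericPoint X)))
    (L := X.residueField (genericPoint X)) (pullback.snd f (Z.fromSpecResidueField (f (genericPoint X)))) t
    (pullback.lift_snd _ _ _) ?_
  exact GeometricallyReduced.geometrically_isReduced _ _ _ (IsPullback.of_hasPullback _ _)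

end Groth.Agent.OmegaSepLib
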