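import Groth.Agent.EtAlgEasy.OmegaSmooth
import Groth.Agent.S13458
import Groth.Agent.OmegaSepLib.GeomRed
import Groth.Agent.FieldExtLib.Separable
import Mathlib.RingTheory.Kaehler.JacobiZariski

/-!
# Injectivity of the map on differentials for separable dominant morphisms
-/

set_option autoImplicit false
set_option backward.isDefEq.respectTransparency false
set_option linter.style.haveILetI false
set_option maxHeartbeats 1000000

universe u

namespace Groth.Agent.OmegaSepLib

section
open scoped TensorProduct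

theorem injective_mapBaseChange_of_smooth (R A B K L : Type u) [CommRing R] [CommRing A] [CommRing B] [Field K] [Field L]
    [Algebra R A] [Algebra R B] [Algebra A B] [IsScalarTower R A B] [IsDomain A] [IsDomain B]
    [Algebra A K] [IsFractionRing A K] [Algebra B L] [IsFractionRing B L] [Algebra K L] [Algebra A L]
    [IsScalarTower A K L] [IsScalarTower A B L] [Algebra.FormallySmooth K L] [Algebra.FormallySmooth R A] :
    Function.Injective (KaehlerDifferential.mapBaseChange R A B) := by
  letI : Algebra R L := ((algebraMap B L).comp (algebraMap R B)).toAlgebra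
  haveI : IsScalarTower R B L := .of_algebraMap_eq fun _ => rfl
  haveI : IsScalarTower R A L := .of_algebraMap_eq fun r => by
    rw [IsScalarTower.algebraMap_apply R B L, IsScalarTower.algebraMap_apply R A B,
      ← IsScalarTower.algebraMap_apply A B L]
  haveI : Algebra.FormallyEtale A K := Algebra.FormallyEtale.of_isLocalization (nonZeroDivisors A)
  haveI : Algebra.FormallySmooth A L := Algebra.FormallySmooth.comp A K L
  let j : B →ₗ[A] L := (IsScalarTower.toAlgHom A B L).toLinearMap
  let J := j.rTensor (Ω[A⁄R])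
  have hJ : Function.Injective J :=
    Module.Flat.rTensor_preserves_injective_linearMap j (IsFractionRing.injective B L)
  have hE : Function.Injective (KaehlerDifferential.mapBaseChange R A L) := by
    refine (injective_iff_map_eq_zero _).2 fun x hx => ?_
    obtain ⟨y, rfl⟩ := (Algebra.H1Cotangent.exact_δ_mapBaseChange R A L x).mp hx
    rw [Subsingleton.elim y 0, map_zero]
  have hcomm : ∀ x, KaehlerDifferential.mapBaseChange R A L (J x) =
      KaehlerDifferential.map R R B L (KaehlerDifferential.mapBaseChange R A B x) := by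
    intro x
    induction x using TensorProduct.induction_on with
    | zero => simp only [map_zero]
    | add a b ha hb => simp only [map_add, ha, hb]
    | tmul b m =>
      show KaehlerDifferential.mapBaseChange R A L (algebraMap B L b ⊗ₜ m) = _
      have hm : m ∈ Submodule.span A (Set.range (KaehlerDifferential.D R A)) := by
        rw [KaehlerDifferential.span_range_derivation]; trivial
      simp only [KaehlerDifferential.mapBaseChange_tmul, map_smul, algebraMap_smul]
      congr 1
      induction hm using Submodule.span_induction with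
      | mem y hy =>
        obtain ⟨a, rfl⟩ := hy
        simp only [KaehlerDifferential.map_D]
        rw [← IsScalarTower.algebraMap_apply A B L]
      | zero => simp only [map_zero]
      | add a b _ _ ha hb => simp only [map_add, ha, hb]
      | smul a y _ hy => rw [LinearMap.map_smul_of_tower, LinearMap.map_smul_of_tower, hy,
          LinearMap.map_smul_of_tower]
  refine fun x y h => hJ (hE ?_)
  rw [hcomm, hcomm, h]

end

open CategoryTheory CategoryTheory.Limits AlgebraicGeometry

theorem mono_of_formallySmooth_generic {X Y : Scheme.{u}} [IsIntegral X] [IsIntegral Y] {S : Scheme.{u}} (f : X ⟶ Y) (g : Y ⟶ S)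
    [Smooth g] (hη : f (genericPoint X) = genericPoint Y)
    (hsep : letI := (f.residueFieldMap (genericPoint X)).hom.toAlgebra
      Algebra.FormallySmooth (Y.residueField (f (genericPoint X))) (X.residueField (genericPoint X)))
    {ΩY : Y.Modules} {dY : OmegaSh.Der g ΩY} (hY : OmegaSh.IsUniversal dY)
    {ΩX : X.Modules} {dX : OmegaSh.Der (f ≫ g) ΩX} (hX : OmegaSh.IsUniversal dX)
    (c : (Scheme.Modules.pullback f).obj ΩY ⟶ ΩX) (hc : OmegaSh.IsDiffCompat f dY dX c) : Mono c := by
  refine ConormalLib.mono_of_local _ fun x V₀ hx m hm => ?_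
  obtain ⟨_, ⟨V, hV, rfl⟩, hxV, -⟩ :=
    S.isBasis_affineOpens.exists_subset_of_mem_open (Set.mem_univ (g (f x))) isOpen_univ
  obtain ⟨_, ⟨W, hW, rfl⟩, hxW, hWV⟩ :=
    Y.isBasis_affineOpens.exists_subset_of_mem_open (a := f x) hxV (g ⁻¹ᵁ V).2
  obtain ⟨_, ⟨U, hU, rfl⟩, hxU, hUW⟩ :=
    X.isBasis_affineOpens.exists_subset_of_mem_open (a := x) (show x ∈ V₀ ⊓ f ⁻¹ᵁ W from ⟨hx, hxW⟩)
      (V₀ ⊓ f ⁻¹ᵁ W).2
  have eU : U ≤ f ⁻¹ᵁ W := fun y hy => (hUW hy).2
  refine ⟨U, fun y hy => (hUW hy).1, hxU, ?_⟩
  letI : Algebra Γ(S, V) Γ(Y, W) := (g.appLE V W hWV).hom.toAlgebra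
  letI : Algebra Γ(S, V) Γ(X, U) := ((f ≫ g).appLE V U (EtAlgEasy.OmegaSeq.le_comp f g hWV eU)).hom.toAlgebra
  letI : Algebra Γ(Y, W) Γ(X, U) := (f.appLE W U eU).hom.toAlgebra
  haveI : IsScalarTower Γ(S, V) Γ(Y, W) Γ(X, U) := .of_algebraMap_eq' (by
    show ((f ≫ g).appLE V U (EtAlgEasy.OmegaSeq.le_comp f g hWV eU)).hom = (g.appLE V W hWV ≫ f.appLE W U eU).hom
    rw [Scheme.Hom.appLE_comp_appLE])
  haveI : Algebra.Smooth Γ(S, V) Γ(Y, W) :=
    RingHom.smooth_algebraMap.1 (HasRingHomProperty.appLE @Smooth g inferInstance ⟨V, hV⟩ ⟨W, hW⟩ hWV)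
  have hgX : genericPoint X ∈ U := ((genericPoint_spec X).mem_open_set_iff U.isOpen).2 ⟨x, trivial, hxU⟩
  have hgY : f (genericPoint X) ∈ W := eU hgX
  haveI : Nonempty U := ⟨⟨x, hxU⟩⟩
  haveI : Nonempty W := ⟨⟨f x, hxW⟩⟩
  letI := (Y.evaluation W (f (genericPoint X)) hgY).hom.toAlgebra
  letI := (X.evaluation U (genericPoint X) hgX).hom.toAlgebra
  letI := (f.residueFieldMap (genericPoint X)).hom.toAlgebra
  haveI := S13458.isFractionRing_residue hW (f (genericPoint X)) hη hgY
  haveI := S13458.isFractionRing_residue hU (genericPoint X) rfl hgX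
  letI : Algebra Γ(Y, W) (X.residueField (genericPoint X)) :=
    (Y.evaluation W (f (genericPoint X)) hgY ≫ f.residueFieldMap (genericPoint X)).hom.toAlgebra
  haveI : IsScalarTower Γ(Y, W) (Y.residueField (f (genericPoint X))) (X.residueField (genericPoint X)) :=
    .of_algebraMap_eq' rfl
  haveI : IsScalarTower Γ(Y, W) Γ(X, U) (X.residueField (genericPoint X)) := .of_algebraMap_eq' (by
    show (Y.evaluation W (f (genericPoint X)) hgY ≫ f.residueFieldMap (genericPoint X)).hom =
      (f.appLE W U eU ≫ X.evaluation U (genericPoint X) hgX).hom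
    congr 1
    rw [Scheme.evaluation_naturality f (genericPoint X) hgY, Scheme.Hom.appLE]
    simp only [Scheme.evaluation, Category.assoc, TopCat.Presheaf.germ_res_assoc])
  haveI := hsep
  have h2 : Function.Injective (KaehlerDifferential.mapBaseChange Γ(S, V) Γ(Y, W) Γ(X, U)) :=
    injective_mapBaseChange_of_smooth Γ(S, V) Γ(Y, W) Γ(X, U)
      (Y.residueField (f (genericPoint X))) (X.residueField (genericPoint X))
  obtain ⟨T, hT⟩ := Groth.Agent.OmegaUnivLib.exists_lin_of_der dX (EtAlgEasy.OmegaSeq.le_comp f g hWV eU)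
  have hTb := Groth.Agent.OmegaUnivLib.bijective_of_universal hV hU (EtAlgEasy.OmegaSeq.le_comp f g hWV eU) hX T hT
  obtain ⟨E, hE, -⟩ := EtAlgEasy.OmegaSeq.exists_chartEquiv f g hY c hc hV hW hU hWV eU T hT
  have hfun : (c.app U : _ → _) ∘ E = (T : _ → _) ∘
      KaehlerDifferential.mapBaseChange Γ(S, V) Γ(Y, W) Γ(X, U) := funext hE
  have hinj := hTb.1.comp h2
  rw [← hfun] at hinj
  refine (Function.Injective.of_comp_iff' _ E.bijective).1 hinj ?_
  rw [Groth.Agent.OmegaUnivLib.hom_natural, hm, map_zero, map_zero]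


end Groth.Agent.OmegaSepLib
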