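import Groth.Agent.OmegaSepLib.Span
import Groth.Prelude.Def_Pi1

/-!
# Data at the generic point of a geometrically normal source
-/

set_option autoImplicit false
set_option backward.isDefEq.respectTransparency false
set_option linter.style.haveILetI false
set_option maxHeartbeats 1000000

universe u

open CategoryTheory CategoryTheory.Limits AlgebraicGeometry TopologicalSpace

noncomputable section

namespace Groth.Agent.OmegaSepLib

attribute [local instance] Curv2.resAlgebra Curv2.stalkAlgebra

theorem isGeometricallyReduced_functionField (k : Type u) [Field k] {X : Scheme.{u}} [X.Over (Spec (CommRingCat.of k))]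
    [IsIntegral X] (hgn : Pi1.IsNormalScheme (pullback (X ↘ Spec (CommRingCat.of k))
      (Spec.map (CommRingCat.ofHom (algebraMap k (AlgebraicClosure k)))))) :
    Algebra.IsGeometricallyReduced k (X.residueField (genericPoint X)) := by
  let P := pullback (X ↘ Spec (CommRingCat.of k)) (Spec.map (CommRingCat.ofHom (algebraMap k (AlgebraicClosure k))))
  haveI : ∀ x : P, _root_.IsReduced (P.presheaf.stalk x) := fun x => by
    haveI := (hgn x).1
    infer_instance
  haveI : IsReduced P := isReduced_of_isReduced_stalk _
  haveI := flat_fromSpecResidueField_generic X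
  refine isGeometricallyReduced_of_reduced_bc (k := k) (L := X.residueField (genericPoint X))
    (X ↘ Spec (CommRingCat.of k)) (X.fromSpecResidueField (genericPoint X)) ?_ inferInstance
  unfold Scheme.fromSpecResidueField
  rw [Category.assoc, GeomRedPtLib.fromSpecStalk_over, ← Spec.map_comp]
  rfl

theorem generic_eq {X Z : Scheme.{u}} [IsIntegral X] (f : X ⟶ Z) {η : Z}
    (hη : closure {η} = closure (Set.range f.base)) : f (genericPoint X) = η := by
  have h1 : closure {f (genericPoint X)} = closure (Set.range f.base) := by
    refine Set.Subset.antisymm (closure_mono (Set.singleton_subset_iff.2 ⟨_, rfl⟩)) (closure_minimal ?_ isClosed_closure)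
    rintro _ ⟨x, rfl⟩
    exact (((genericPoint_spec X).specializes trivial).map f.continuous).mem_closure
  exact (inseparable_iff_closure_eq.2 (h1.trans hη.symm)).eq

theorem height_eq {Z : Scheme.{u}} {η : Z} {A : Set Z} (hη : closure {η} = closure A) {m : ℕ}
    (hm : topologicalKrullDim (closure A) = m) : Order.height η = (m : ℕ∞) := by
  rw [← hη, DimFormulaLib.topologicalKrullDim_closure_singleton] at hm
  exact_mod_cast hm

end Groth.Agent.OmegaSepLib
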