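import Groth.Agent.OmegaSepLib.GeomRed
import Groth.Agent.OmegaUnivLib.Aff
import Groth.Agent.DimFormulaLib.Field
import Groth.Agent.FieldExtLib.Separable
import Groth.Agent.FieldExtLib.Imperfection
import Groth.Agent.DegDevLib.Frame
import Groth.Agent.PullbackMod.Basic
import Mathlib.RingTheory.Kaehler.JacobiZariski

/-!
# The generic rank of the differentials pulled back from the image
-/

set_option autoImplicit false
set_option backward.isDefEq.respectTransparency false
set_option linter.style.haveILetI false
set_option linter.unusedSectionVars false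
set_option maxHeartbeats 1000000

universe u

open CategoryTheory CategoryTheory.Limits AlgebraicGeometry TopologicalSpace Opposite TensorProduct

noncomputable section

namespace Groth.Agent.OmegaSepLib

attribute [local instance] Curv2.resAlgebra

section Field

variable {k κ L : Type u} [Field k] [Field κ] [Field L] [Algebra k κ] [Algebra κ L] [Algebra k L] [IsScalarTower k κ L]

/-- The differentials of an intermediate field span a subspace of dimension its transcendence degree. -/
theorem trdeg_le_finrank [Algebra.EssFiniteType k κ] (hκL : Algebra.IsGeometricallyReduced κ L)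
    (hkL : Algebra.IsGeometricallyReduced k L) {m : ℕ} (hm : Algebra.trdeg k κ = m) (S : Submodule L Ω[L⁄k])
    [Module.Finite L S] (hS : ∀ z : κ, KaehlerDifferential.D k L (algebraMap κ L z) ∈ S) :
    m ≤ Module.finrank L S := by
  haveI := FieldExtLib.formallySmooth_of_isGeometricallyReduced hκL
  haveI hkκ : Algebra.IsGeometricallyReduced k κ :=
    Algebra.IsGeometricallyReduced.of_injective (IsScalarTower.toAlgHom k κ L) (algebraMap κ L).injective
  haveI := FieldExtLib.formallySmooth_of_isGeometricallyReduced hkκ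
  obtain ⟨-, hrank⟩ := FieldExtLib.finrank_kaehler_eq k κ
  rw [Module.finrank_zero_of_subsingleton (R := κ) (M := Algebra.H1Cotangent k κ), zero_add, hm, Cardinal.toNat_natCast] at hrank
  let T := KaehlerDifferential.mapBaseChange k κ L
  have hinj : Function.Injective T := (injective_iff_map_eq_zero T).2 fun x hx => by
    obtain ⟨y, rfl⟩ := (Algebra.H1Cotangent.exact_δ_mapBaseChange k κ L x).mp hx
    rw [Subsingleton.elim y 0, map_zero]
  have hrange : LinearMap.range T ≤ S := by
    rintro _ ⟨x, rfl⟩
    induction x using TensorProduct.induction_on with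
    | zero => rw [map_zero]; exact zero_mem _
    | add a b ha hb => rw [map_add]; exact add_mem ha hb
    | tmul l w =>
      rw [KaehlerDifferential.mapBaseChange_tmul]
      refine S.smul_mem l ?_
      have hw : w ∈ Submodule.span κ (Set.range (KaehlerDifferential.D k κ)) := by
        rw [KaehlerDifferential.span_range_derivation]; trivial
      induction hw using Submodule.span_induction with
      | mem y hy =>
        obtain ⟨z, rfl⟩ := hy
        rw [KaehlerDifferential.map_D]
        exact hS z
      | zero => rw [map_zero]; exact zero_mem _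
      | add a b _ _ ha hb => rw [map_add]; exact add_mem ha hb
      | smul a y _ hy => rw [map_smul, ← algebraMap_smul L a]; exact S.smul_mem _ hy
  calc m = Module.finrank L (L ⊗[κ] Ω[κ⁄k]) := by rw [Module.finrank_baseChange, hrank]
    _ = Module.finrank L (LinearMap.range T) := (LinearMap.finrank_range_of_inj hinj).symm
    _ ≤ Module.finrank L S := Submodule.finrank_mono hrange

end Field

variable (k : Type u) [Field k] {X Z : Scheme.{u}} [X.Over (Spec (CommRingCat.of k))]
  [Z.Over (Spec (CommRingCat.of k))]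

theorem algebraMap_res_eq {x : X} {U : X.Opens} (hx : x ∈ U) (r : k) :
    algebraMap k (X.residueField x) r = X.evaluation U x hx
      ((X ↘ Spec (CommRingCat.of k)).appLE ⊤ U le_top ((Scheme.ΓSpecIso (CommRingCat.of k)).inv r)) := by
  show X.residue x (X.presheaf.germ ⊤ x trivial (Coh.toGlobal (X ↘ Spec (CommRingCat.of k)) r)) = _
  simp only [Coh.toGlobal, RingHom.comp_apply, Scheme.evaluation, CommRingCat.comp_apply, Scheme.Hom.appLE]
  rw [TopCat.Presheaf.germ_res_apply]
  rfl

variable (f : X ⟶ Z) (hf : f ≫ (Z ↘ Spec (CommRingCat.of k)) = X ↘ Spec (CommRingCat.of k))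

include hf in
theorem algebraMap_res_comp (x : X) (r : k) :
    f.residueFieldMap x (algebraMap k (Z.residueField (f x)) r) = algebraMap k (X.residueField x) r := by
  show f.residueFieldMap x (Z.residue (f x) (Z.presheaf.germ ⊤ (f x) trivial (Coh.toGlobal (Z ↘ Spec (CommRingCat.of k)) r))) =
    X.residue x (X.presheaf.germ ⊤ x trivial (Coh.toGlobal (X ↘ Spec (CommRingCat.of k)) r))
  rw [← CommRingCat.comp_apply (Z.residue (f x)), Scheme.residue_residueFieldMap, CommRingCat.comp_apply,
    Scheme.Hom.germ_stalkMap_apply]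
  simp only [← hf, Coh.toGlobal, RingHom.comp_apply, Scheme.Hom.comp_appTop, CommRingCat.comp_apply]
  rfl

variable [IsIntegral X] [LocallyOfFiniteType (Z ↘ Spec (CommRingCat.of k))]

include hf in
/-- Among the images of a global frame there are `m` independent at the generic point. -/
theorem exists_indep
    (hκL : letI := (f.residueFieldMap (genericPoint X)).hom.toAlgebra
      Algebra.IsGeometricallyReduced (Z.residueField (f (genericPoint X))) (X.residueField (genericPoint X)))
    (hkL : Algebra.IsGeometricallyReduced k (X.residueField (genericPoint X)))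
    {m : ℕ} (hm : Order.height (f (genericPoint X)) = (m : ℕ∞))
    {ΩZ : Z.Modules} {dZ : OmegaSh.Der (Z ↘ Spec (CommRingCat.of k)) ΩZ}
    {ΩX : X.Modules} {dX : OmegaSh.Der (X ↘ Spec (CommRingCat.of k)) ΩX} (hdX : OmegaSh.IsUniversal dX)
    (c : (Scheme.Modules.pullback f).obj ΩZ ⟶ ΩX) (hc : OmegaSh.IsDiffCompat f dZ dX c)
    {d : ℕ} (σ : Fin d → Γ((Scheme.Modules.pullback f).obj ΩZ, (⊤ : X.Opens)))
    (hσ : DegDevLib.IsFrame (⊤ : X.Opens) σ) (U₀ : X.Opens) (hU₀ : genericPoint X ∈ U₀) :
    ∃ (U : X.Opens) (_ : IsAffineOpen U) (hle : U ≤ U₀) (hη : genericPoint X ∈ U)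
      (Φ : Γ(ΩX, U) →+ Ω[X.residueField (genericPoint X)⁄k]),
      (∀ (b : Γ(X, U)) (s : Γ(ΩX, U)), Φ (b • s) = X.evaluation U (genericPoint X) hη b • Φ s) ∧
      ∃ a : Fin m → Fin d, Function.Injective a ∧ LinearIndependent (X.residueField (genericPoint X))
        fun j => Φ (c.app U (((Scheme.Modules.pullback f).obj ΩZ).presheaf.map (homOfLE le_top).op (σ (a j)))) := by
  classical
  let g := genericPoint X
  let L := X.residueField g
  let κ := Z.residueField (f g)
  obtain ⟨_, ⟨W, hW, rfl⟩, hgW, -⟩ := Z.isBasis_affineOpens.exists_subset_of_mem_open (Set.mem_univ (f g)) isOpen_univ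
  obtain ⟨_, ⟨U, hU, rfl⟩, hgU, hUle⟩ :=
    X.isBasis_affineOpens.exists_subset_of_mem_open (show g ∈ U₀ ⊓ f ⁻¹ᵁ W from ⟨hU₀, hgW⟩) (U₀ ⊓ f ⁻¹ᵁ W).2
  have eU : U ≤ f ⁻¹ᵁ W := fun y hy => (hUle hy).2
  let ev := (X.evaluation U g hgU).hom
  -- the map to the differentials of the function field
  let V : (Spec (CommRingCat.of k)).Opens := ⊤
  let sX := X ↘ Spec (CommRingCat.of k)
  letI : Algebra Γ(Spec (CommRingCat.of k), V) Γ(X, U) := (sX.appLE V U le_top).hom.toAlgebra
  letI : Module Γ(X, U) Ω[L⁄k] := Module.compHom _ ev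
  letI : Module Γ(Spec (CommRingCat.of k), V) Ω[L⁄k] := Module.compHom _ (ev.comp (sX.appLE V U le_top).hom)
  haveI : IsScalarTower Γ(Spec (CommRingCat.of k), V) Γ(X, U) Ω[L⁄k] :=
    .of_algebraMap_smul fun r x => rfl
  let δ : Derivation Γ(Spec (CommRingCat.of k), V) Γ(X, U) Ω[L⁄k] := Derivation.mk'
    { toFun := fun b => KaehlerDifferential.D k L (ev b)
      map_add' := fun a b => by rw [map_add, map_add]
      map_smul' := fun r b => by
        show KaehlerDifferential.D k L (ev (sX.appLE V U le_top r * b)) = ev (sX.appLE V U le_top r) • _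
        rw [map_mul, Derivation.leibniz]
        have e : ev (sX.appLE V U le_top r) = algebraMap k L ((Scheme.ΓSpecIso (CommRingCat.of k)).hom r) := by
          rw [algebraMap_res_eq k hgU]
          simp [ev, sX]
          rfl
        rw [e, Derivation.map_algebraMap, smul_zero, add_zero] }
    (fun a b => by
      show KaehlerDifferential.D k L (ev (a * b)) = ev a • KaehlerDifferential.D k L (ev b) + ev b • KaehlerDifferential.D k L (ev a)
      rw [map_mul, Derivation.leibniz])
  obtain ⟨T, hT⟩ := OmegaUnivLib.exists_lin_of_der dX (V := V) (U := U) le_top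
  have hTb := OmegaUnivLib.bijective_of_universal (isAffineOpen_top _) hU le_top hdX T hT
  let Φ : Γ(ΩX, U) →ₗ[Γ(X, U)] Ω[L⁄k] := δ.liftKaehlerDifferential ∘ₗ (LinearEquiv.ofBijective T hTb).symm.toLinearMap
  have hΦ : ∀ b, Φ (dX.app U b) = KaehlerDifferential.D k L (ev b) := fun b => by
    show δ.liftKaehlerDifferential ((LinearEquiv.ofBijective T hTb).symm (dX.app U b)) = _
    rw [(LinearEquiv.symm_apply_eq (e := LinearEquiv.ofBijective T hTb)).mpr (hT b).symm]
    exact δ.liftKaehlerDifferential_comp_D b
  let G := (Scheme.Modules.pullback f).obj ΩZ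
  let v : Fin d → Ω[L⁄k] := fun i => Φ (c.app U (G.presheaf.map (homOfLE le_top).op (σ i)))
  let S := Submodule.span L (Set.range v)
  -- differentials of the residue field of the image
  have hA : ∀ a : Γ(Z, W), KaehlerDifferential.D k L (ev (f.appLE W U eU a)) ∈ S := fun a => by
    have e : dX.app U (f.appLE W U eU a) = c.app U (PullbackMod.pullMap f ΩZ eU (dZ.app W a)) := by
      show dX.app U (X.presheaf.map (homOfLE eU).op (f.app W a)) = _
      rw [OmegaUnivLib.app_res, ← hc W a]
      exact (ConcreteCategory.congr_hom (c.mapPresheaf.naturality (homOfLE eU).op) _).symm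
    obtain ⟨b, hb⟩ := (hσ.res (le_top : U ≤ ⊤)).bijective.2 (PullbackMod.pullMap f ΩZ eU (dZ.app W a))
    rw [Fintype.linearCombination_apply] at hb
    rw [← hΦ, e, ← hb, map_sum, map_sum]
    refine S.sum_mem fun i _ => ?_
    have e2 : c.app U (b i • G.presheaf.map (homOfLE le_top).op (σ i)) =
        b i • c.app U (G.presheaf.map (homOfLE le_top).op (σ i)) := c.app_smul _ _
    erw [e2, map_smul]
    exact S.smul_mem _ (Submodule.subset_span ⟨i, rfl⟩)
  letI := (f.residueFieldMap g).hom.toAlgebra
  haveI : IsScalarTower k κ L := .of_algebraMap_eq fun r => (algebraMap_res_comp k f hf g r).symm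
  have hev : ∀ a : Γ(Z, W), algebraMap κ L (Z.evaluation W (f g) hgW a) = ev (f.appLE W U eU a) := fun a => by
    show f.residueFieldMap g _ = _
    rw [← CommRingCat.comp_apply, Scheme.evaluation_naturality f g hgW]
    simp [ev, Scheme.evaluation, Scheme.Hom.appLE, TopCat.Presheaf.germ_res_apply]
  have hS : ∀ z : κ, KaehlerDifferential.D k L (algebraMap κ L z) ∈ S := fun z => by
    obtain ⟨w, rfl⟩ := Scheme.residue_surjective Z (f g) z
    letI := TopCat.Presheaf.algebra_section_stalk Z.presheaf (⟨f g, hgW⟩ : W)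
    haveI : @IsLocalization _ _ (hW.primeIdealOf ⟨f g, hgW⟩).asIdeal.primeCompl (Z.presheaf.stalk (f g)) _ _ :=
      hW.isLocalization_stalk ⟨f g, hgW⟩
    obtain ⟨⟨a, ⟨b, hb⟩⟩, e⟩ := IsLocalization.surj (hW.primeIdealOf ⟨f g, hgW⟩).asIdeal.primeCompl w
    have e' : Z.residue (f g) w * Z.evaluation W (f g) hgW b = Z.evaluation W (f g) hgW a := by
      rw [← show Z.residue (f g) (algebraMap Γ(Z, W) (Z.presheaf.stalk (f g)) b) = Z.evaluation W (f g) hgW b from rfl,
        ← map_mul, e]
      rfl
    have hb0 : algebraMap κ L (Z.evaluation W (f g) hgW b) ≠ 0 := by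
      refine (map_ne_zero_iff _ (algebraMap κ L).injective).2 ?_
      exact ((IsLocalization.map_units (Z.presheaf.stalk (f g)) (⟨b, hb⟩ :
        (hW.primeIdealOf ⟨f g, hgW⟩).asIdeal.primeCompl)).map (Z.residue (f g)).hom).ne_zero
    have h1 := congrArg (fun t => KaehlerDifferential.D k L (algebraMap κ L t)) e'
    simp only [map_mul, Derivation.leibniz, hev] at h1
    rw [hev] at hb0
    have h2 : ev (f.appLE W U eU b) • KaehlerDifferential.D k L (algebraMap κ L (Z.residue (f g) w)) ∈ S := by
      have h4 : algebraMap κ L (Z.residue (f g) w) • KaehlerDifferential.D k L (ev (f.appLE W U eU b)) ∈ S :=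
        S.smul_mem _ (hA b)
      exact (Submodule.add_mem_iff_right S h4).1 (h1.symm ▸ hA a)
    simpa [smul_smul, inv_mul_cancel₀ hb0] using S.smul_mem (ev (f.appLE W U eU b))⁻¹ h2
  -- the dimension of the image
  have hm' : Algebra.trdeg k κ = m := by
    obtain ⟨-, t, -, ht, -, hh⟩ := DimFormulaLib.field_dims (Z ↘ Spec (CommRingCat.of k)) (f g)
    rw [DimFormulaLib.resTrdegAt_over k Z (f g)] at ht
    have : m = t := by exact_mod_cast hm.symm.trans hh
    rw [ht, this]
  haveI : Algebra.EssFiniteType k κ := by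
    letI := ((Z ↘ Spec (CommRingCat.of k)).residueFieldMap (f g)).hom.toAlgebra
    let ψ : k →+* (Spec (CommRingCat.of k)).residueField ((Z ↘ Spec (CommRingCat.of k)) (f g)) :=
      ((Spec (CommRingCat.of k)).Γevaluation _).hom.comp (Scheme.ΓSpecIso (CommRingCat.of k)).inv.hom
    letI := ψ.toAlgebra
    haveI : IsScalarTower k ((Spec (CommRingCat.of k)).residueField ((Z ↘ Spec (CommRingCat.of k)) (f g))) κ :=
      .of_algebraMap_eq fun r => (Scheme.Γevaluation_naturality_apply (Z ↘ Spec (CommRingCat.of k)) (f g) _).symm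
    haveI : Algebra.FiniteType k ((Spec (CommRingCat.of k)).residueField ((Z ↘ Spec (CommRingCat.of k)) (f g))) :=
      Algebra.FiniteType.of_surjective (Algebra.ofId k _) (DimFormulaLib.evaluation_surjective k _)
    haveI : Algebra.EssFiniteType ((Spec (CommRingCat.of k)).residueField ((Z ↘ Spec (CommRingCat.of k)) (f g))) κ :=
      RingHom.EssFiniteType.residueFieldMap (LocallyOfFiniteType.stalkMap (Z ↘ Spec (CommRingCat.of k)) (f g))
    exact Algebra.EssFiniteType.comp k ((Spec (CommRingCat.of k)).residueField ((Z ↘ Spec (CommRingCat.of k)) (f g))) κ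
  haveI : Module.Finite L S := Module.Finite.span_of_finite L (Set.finite_range v)
  have hle : m ≤ Module.finrank L S := trdeg_le_finrank hκL hkL hm' S hS
  obtain ⟨ι, a₀, ha₀, hspan, hli⟩ := exists_linearIndependent' L v
  haveI : Finite ι := Finite.of_injective a₀ ha₀
  letI := Fintype.ofFinite ι
  have hcard : Module.finrank L S = Fintype.card ι := by
    show Module.finrank L ↥(Submodule.span L (Set.range v)) = _
    rw [← hspan]
    exact finrank_span_eq_card hli
  let e : Fin m ↪ ι := (Fin.castLEEmb (hle.trans hcard.le)).trans (Fintype.equivFin ι).symm.toEmbedding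
  exact ⟨U, hU, fun y hy => (hUle hy).1, hgU, Φ.toAddMonoidHom, fun b s => Φ.map_smul b s,
    a₀ ∘ e, ha₀.comp e.injective, hli.comp e e.injective⟩

end Groth.Agent.OmegaSepLib
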